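import Cfsg.Agent.J2.Perm.Simple
import Cfsg.Agent.Unitary.Special
import Mathlib.Algebra.QuadraticAlgebra.Basic

/-! The subgroup of index 100 is `PSU(3,3)`, compared on 63 lines and 63 non-isotropic points. -/

set_option autoImplicit false
set_option maxRecDepth 100000

namespace CfsgLib.J2.Perm

open CfsgLib.Coset Matrix

/-- The field of nine elements. -/
abbrev F9 : Type := QuadraticAlgebra (ZMod 3) 2 0

instance F9.fact : Fact (∀ r : ZMod 3, r ^ 2 ≠ 2 + 0 * r) := ⟨by decide⟩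
instance F9.prime : Fact (Nat.Prime 3) := ⟨by norm_num⟩

/-- A listing of the nine elements. -/
def f9Equiv : F9 ≃ ZMod 3 × ZMod 3 := QuadraticAlgebra.equivProd 2 0

instance F9.fintype : Fintype F9 := Fintype.ofEquiv _ f9Equiv.symm

theorem F9.card : Fintype.card F9 = 9 := rfl

theorem hF : Nat.card F9 = 3 ^ 2 := by rw [Nat.card_eq_fintype_card, F9.card]; rfl

/-- decode an element -/
def dec9 (c : Nat) : F9 := ⟨((c / 3 : Nat) : ZMod 3), ((c % 3 : Nat) : ZMod 3)⟩

/-- A non-isotropic vector. -/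
def uVec (j : Nat) : Fin 3 → F9 := fun i => dec9 ((uVecs.getD j []).getD i.val 0)

/-- A generating matrix. -/
def uMat (l : Fin 4) : Matrix (Fin 3) (Fin 3) F9 :=
  Matrix.of fun i j => dec9 (((uMats.getD l.val []).getD i.val []).getD j.val 0)

theorem cube_add : ∀ x y : F9, (x + y) ^ 3 = x ^ 3 + y ^ 3 := by decide +kernel

theorem uMat_det : ∀ l : Fin 4, (uMat l 0 0 * uMat l 1 1 * uMat l 2 2 -
    uMat l 0 0 * uMat l 1 2 * uMat l 2 1 - uMat l 0 1 * uMat l 1 0 * uMat l 2 2 +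
    uMat l 0 1 * uMat l 1 2 * uMat l 2 0 + uMat l 0 2 * uMat l 1 0 * uMat l 2 1 -
    uMat l 0 2 * uMat l 1 1 * uMat l 2 0) = 1 := by decide +kernel

theorem uMat_unitary : ∀ l : Fin 4, ∀ k m : Fin 3,
    uMat l 0 k * uMat l 0 m ^ 3 + uMat l 1 k * uMat l 1 m ^ 3 + uMat l 2 k * uMat l 2 m ^ 3 =
      if k = m then 1 else 0 := by decide +kernel

theorem uMat_mem (l : Fin 4) :
    (⟨uMat l, by rw [Matrix.det_fin_three]; exact uMat_det l⟩ :
      Matrix.SpecialLinearGroup (Fin 3) F9) ∈ Cfsg.SU 3 F9 3 := by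
  intro u v
  show Cfsg.hermForm 3 F9 3 (uMat l *ᵥ u) (uMat l *ᵥ v) = Cfsg.hermForm 3 F9 3 u v
  have h00 := uMat_unitary l 0 0
  have h01 := uMat_unitary l 0 1
  have h02 := uMat_unitary l 0 2
  have h10 := uMat_unitary l 1 0
  have h11 := uMat_unitary l 1 1
  have h12 := uMat_unitary l 1 2
  have h20 := uMat_unitary l 2 0
  have h21 := uMat_unitary l 2 1
  have h22 := uMat_unitary l 2 2
  simp only [Fin.reduceEq, if_true, if_false] at h00 h01 h02 h10 h11 h12 h20 h21 h22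
  simp only [Cfsg.hermForm, Matrix.mulVec, dotProduct, Fin.sum_univ_three, cube_add, mul_pow]
  linear_combination u 0 * v 0 ^ 3 * h00 + u 0 * v 1 ^ 3 * h01 + u 0 * v 2 ^ 3 * h02 +
    u 1 * v 0 ^ 3 * h10 + u 1 * v 1 ^ 3 * h11 + u 1 * v 2 ^ 3 * h12 +
    u 2 * v 0 ^ 3 * h20 + u 2 * v 1 ^ 3 * h21 + u 2 * v 2 ^ 3 * h22

/-- The unitary group. -/
abbrev U : Type := Cfsg.SU 3 F9 3

/-- The image of a generator. -/
def uGen (l : Fin 4) : U :=
  ⟨⟨uMat l, by rw [Matrix.det_fin_three]; exact uMat_det l⟩, uMat_mem l⟩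

/-- The matrix of an element. -/
def mat (s : U) : Matrix (Fin 3) (Fin 3) F9 := (s.1 : Matrix (Fin 3) (Fin 3) F9)

theorem pts_bound : ∀ j : Fin 63, uPts.getD j.val 0 < 315 := by decide +kernel

/-- The line of a point. -/
def pt (j : Fin 63) : Fin 315 := ⟨uPts.getD j.val 0, pts_bound j⟩

theorem pt_injective : Function.Injective pt := by
  have h : ∀ a b : Fin 63, uPts.getD a.val 0 = uPts.getD b.val 0 → a = b := by decide +kernel
  exact fun a b e => h a b (congrArg Fin.val e)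

theorem act_check : ∀ l : Fin 4, ∀ j : Fin 63, ∃ q : Fin 63,
    tget Tb (uPts.getD q.val 0) l.val = uPts.getD j.val 0 ∧
      ∃ c : F9, c ≠ 0 ∧ uMat l *ᵥ uVec j = c • uVec q := by
  decide +kernel

/-- Compatible pairs. -/
def Compat (x : P × U) : Prop :=
  ∀ j : Fin 63, ∃ (q : Fin 63) (c : F9), c ≠ 0 ∧ ρ x.1 (pt j) = pt q ∧
    mat x.2 *ᵥ uVec j = c • uVec q

theorem compat_one : Compat 1 := fun j =>
  ⟨j, 1, one_ne_zero, by simp, by simp [mat]⟩

theorem Compat.mul' {x y : P × U} (hx : Compat x) (hy : Compat y) : Compat (x * y) := by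
  intro j
  obtain ⟨j₁, c₁, hc₁, hp₁, hv₁⟩ := hy j
  obtain ⟨j₂, c₂, hc₂, hp₂, hv₂⟩ := hx j₁
  refine ⟨j₂, c₁ * c₂, mul_ne_zero hc₁ hc₂, ?_, ?_⟩
  · rw [Prod.fst_mul, map_mul, Equiv.Perm.mul_apply, hp₁, hp₂]
  · rw [Prod.snd_mul, show mat (x.2 * y.2) = mat x.2 * mat y.2 from rfl, ← Matrix.mulVec_mulVec,
      hv₁, Matrix.mulVec_smul, hv₂, smul_smul]

/-- The paired generators. -/
def pairGens : Set (P × U) := Set.range fun l : Fin 4 => (fl Lp l.val, uGen l)

/-- The graph. -/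
def Γ : Subgroup (P × U) := Subgroup.closure pairGens

theorem compat_gen (l : Fin 4) : Compat (fl Lp l.val, uGen l) := by
  intro j
  obtain ⟨q, ht, c, hc, hv⟩ := act_check l j
  refine ⟨q, c, hc, ?_, hv⟩
  have h := matches_ρ l.val (by rw [len_Lp]; omega) (pt q)
  have h' : (ρ (fl Lp l.val))⁻¹ (pt q) = pt j := Fin.ext (h.trans ht)
  rw [Equiv.Perm.inv_def, Equiv.symm_apply_eq] at h'
  exact h'.symm

theorem compat_of_mem {x : P × U} (hx : x ∈ Γ) : Compat x := by
  have := finite_P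
  have : Finite (P × U) := inferInstance
  have h : x ∈ Submonoid.closure pairGens := by
    rw [← Subgroup.closure_toSubmonoid_of_finite]; exact hx
  induction h using Submonoid.closure_induction with
  | mem y hy => obtain ⟨l, rfl⟩ := hy; exact compat_gen l
  | one => exact compat_one
  | mul a b ha hb iha ihb =>
    exact (iha (Subgroup.le_closure_toSubmonoid _ ha)).mul' (ihb (Subgroup.le_closure_toSubmonoid _ hb))

theorem scalar_of_fix {s : U} (h : ∀ j : Fin 63, ∃ c : F9, mat s *ᵥ uVec j = c • uVec j) :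
    s ∈ Subgroup.center U := by
  have hb : ∀ t : Fin 3, ∃ j : Fin 63, uVec j = Pi.single t 1 := by decide +kernel
  have hp : (∃ j : Fin 63, uVec j = ![1, 1, 0]) ∧ (∃ j : Fin 63, uVec j = ![0, 1, 1]) := by
    decide +kernel
  have off : ∀ r t : Fin 3, r ≠ t → mat s r t = 0 := by
    intro r t hrt
    obtain ⟨j, hj⟩ := hb t
    obtain ⟨c, hc⟩ := h j
    rw [hj] at hc
    have := congrFun hc r
    simpa [Pi.single_apply, hrt] using this
  obtain ⟨⟨a, ha⟩, ⟨b, hb'⟩⟩ := hp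
  obtain ⟨ca, hca⟩ := h a
  obtain ⟨cb, hcb⟩ := h b
  rw [ha] at hca
  rw [hb'] at hcb
  have a0 := congrFun hca 0
  have a1 := congrFun hca 1
  have b1 := congrFun hcb 1
  have b2 := congrFun hcb 2
  simp [Matrix.mulVec, dotProduct, Fin.sum_univ_three, off] at a0 a1 b1 b2
  refine (CfsgLib.Unitary.mem_center_SU_iff hF (by norm_num)).mpr ⟨mat s 0 0, ?_⟩
  refine Matrix.ext fun r t => ?_
  show mat s r t = _
  rcases eq_or_ne r t with rfl | hne
  · fin_cases r <;> simp [a0, a1, b2, ← b1]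
  · simp [off r t hne, hne]

theorem fst_map : Γ.map (MonoidHom.fst P U) = H := by
  rw [Γ, MonoidHom.map_closure, pairGens, ← Set.range_comp, H, genBy]
  congr 1
  ext x
  constructor
  · rintro ⟨l, rfl⟩
    fin_cases l <;> simp [lv]
  · intro hx
    simp only [Set.mem_setOf_eq, lv, List.map_cons, List.map_nil, List.mem_cons,
      List.not_mem_nil, or_false] at hx
    rcases hx with rfl | rfl | rfl | rfl
    · exact ⟨0, rfl⟩
    · exact ⟨1, rfl⟩
    · exact ⟨2, rfl⟩
    · exact ⟨3, rfl⟩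

theorem exists_pair (h : H) : ∃ s : U, ((h : P), s) ∈ Γ := by
  have hh : (h : P) ∈ Γ.map (MonoidHom.fst _ _) := by rw [fst_map]; exact h.2
  obtain ⟨⟨a, b⟩, hm, he⟩ := hh
  exact ⟨b, by rw [← he]; exact hm⟩

/-- The correspondence. -/
noncomputable def θfun (h : H) : Cfsg.PSU 3 F9 3 := QuotientGroup.mk (exists_pair h).choose

theorem θfun_eq {h : H} {s : U} (hs : ((h : P), s) ∈ Γ) : θfun h = QuotientGroup.mk s := by
  refine QuotientGroup.eq.mpr ?_
  have h' := compat_of_mem (mul_mem (inv_mem (exists_pair h).choose_spec) hs)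
  rw [Prod.inv_mk, Prod.mk_mul_mk, inv_mul_cancel] at h'
  refine scalar_of_fix fun j => ?_
  obtain ⟨q, c, -, hp, hv⟩ := h' j
  rw [map_one, Equiv.Perm.one_apply] at hp
  exact ⟨c, by rw [hv, pt_injective hp]⟩

theorem vec_normal : ∀ q j : Fin 63, ∀ c : F9, uVec j = c • uVec q → q = j := by decide +kernel

theorem card_psu : Nat.card (Cfsg.PSU 3 F9 3) = 6048 := by
  have h := CfsgLib.Unitary.card_PSU_mul (F := F9) (q := 3) hF (n := 3) (by norm_num)
  rw [CfsgLib.Unitary.card_GU hF 3] at h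
  simp [Finset.prod_range_succ] at h
  omega

theorem nonempty_psu : Nonempty (H ≃* Cfsg.PSU 3 F9 3) := by
  have := finite_P
  let θ : H →* Cfsg.PSU 3 F9 3 := MonoidHom.mk' θfun fun a b =>
    θfun_eq (h := a * b) (mul_mem (exists_pair a).choose_spec (exists_pair b).choose_spec)
  have hinj : Function.Injective θ := by
    rw [← MonoidHom.ker_eq_bot_iff, eq_bot_iff]
    intro h hh
    obtain ⟨s, hs⟩ := exists_pair h
    have hθ : θ h = QuotientGroup.mk s := θfun_eq hs
    rw [MonoidHom.mem_ker, hθ, QuotientGroup.eq_one_iff,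
      CfsgLib.Unitary.mem_center_SU_iff hF (by norm_num)] at hh
    obtain ⟨r, hr⟩ := hh
    have hr0 : r ≠ 0 := by
      rintro rfl
      have := s.1.2
      rw [hr] at this
      simp at this
    have hfix : ∀ b ∈ base, (h : P) ∈ pstab ρ b := by
      intro b hb
      rw [mem_pstab]
      have hbp : ∀ b ∈ base, ∃ j : Fin 63, pt j = b := by decide +kernel
      obtain ⟨j, rfl⟩ := hbp b hb
      obtain ⟨q, c, hc, hp, hv⟩ := compat_of_mem hs j
      rw [show mat s = r • 1 from hr, Matrix.smul_mulVec, Matrix.one_mulVec] at hv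
      rw [hp]
      congr 1
      refine vec_normal q j (r⁻¹ * c) ?_
      rw [← smul_smul, ← hv, smul_smul, inv_mul_cancel₀ hr0, one_smul]
    have hmem : (h : P) ∈ baseStab ρ base :=
      (mem_foldl_inf _ ⊤).mpr ⟨trivial, fun b hb => hfix b hb⟩
    rw [base_bot, Subgroup.mem_bot] at hmem
    exact Subgroup.mem_bot.mpr (Subtype.ext hmem)
  have : Finite (Cfsg.PSU 3 F9 3) := Nat.finite_of_card_ne_zero (by rw [card_psu]; norm_num)
  refine ⟨MulEquiv.ofBijective θ (hinj.bijective_of_nat_card_le ?_)⟩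
  rw [card_H, card_psu]

theorem orbit_sizes : ∃ c₁ c₂ : P ⧸ H, (MulAction.orbit H c₁).ncard = 36 ∧
    (MulAction.orbit H c₂).ncard = 63 := by
  have o36 : (orb ρ100 H (26 : Fin 100)).ncard = 36 := by
    rw [← H_eq]
    exact orbits_ncard matches_ρ100 orbits_ok letters_H
      (c := ⟨26, 36, D1P, D1Inv⟩) (by simp [certs]) 26 rfl
  have o63 : (orb ρ100 H (1 : Fin 100)).ncard = 63 := by
    rw [← H_eq]
    exact orbits_ncard matches_ρ100 orbits_ok letters_H
      (c := ⟨1, 63, D0P, D0Inv⟩) (by simp [certs]) 1 rfl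
  obtain ⟨q₁, h1⟩ := exists_orbit_coset index_and_eq.2 H trans100 o36
  obtain ⟨q₂, h2⟩ := exists_orbit_coset index_and_eq.2 H trans100 o63
  exact ⟨q₁, q₂, h1, h2⟩

end CfsgLib.J2.Perm
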