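import Cfsg.Agent.Coset.Prim

/-! Relators of the generating reflections modulo sign. -/

set_option autoImplicit false
set_option maxRecDepth 100000

namespace CfsgLib.J2.Perm

/-- relators -/
def rels : List (List Nat) := [
  [0, 0],
  [1, 1],
  [2, 2],
  [3, 3],
  [4, 4],
  [0, 1, 0, 1],
  [0, 2, 0, 2, 0, 2],
  [0, 3, 0, 3, 0, 3],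
  [0, 4, 0, 4, 0, 4],
  [1, 2, 1, 2, 1, 2],
  [1, 3, 1, 3, 1, 3],
  [1, 4, 1, 4, 1, 4],
  [2, 3, 2, 3, 2, 3],
  [2, 4, 2, 4, 2, 4],
  [3, 4, 3, 4, 3, 4],
  [0, 1, 0, 2, 1, 2, 1, 2],
  [0, 1, 0, 3, 1, 3, 1, 3],
  [0, 1, 0, 4, 1, 4, 1, 4],
  [0, 1, 2, 0, 2, 0, 2, 1],
  [0, 1, 3, 0, 3, 0, 3, 1],
  [0, 1, 4, 0, 4, 0, 4, 1],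
  [0, 1, 2, 0, 1, 2, 0, 1, 2, 0, 1, 2],
  [0, 1, 2, 1, 0, 2, 0, 1, 2, 1, 0, 2],
  [0, 1, 3, 0, 1, 3, 0, 1, 3, 0, 1, 3],
  [0, 1, 3, 1, 0, 3, 0, 1, 3, 1, 0, 3],
  [0, 1, 4, 0, 1, 4, 0, 1, 4, 0, 1, 4],
  [0, 2, 0, 3, 0, 2, 0, 3, 0, 2, 0, 3],
  [0, 2, 3, 2, 0, 2, 3, 2, 0, 2, 3, 2],
  [0, 3, 1, 3, 0, 3, 1, 3, 0, 3, 1, 3],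
  [0, 3, 2, 3, 0, 3, 2, 3, 0, 3, 2, 3],
  [0, 1, 0, 1, 2, 3, 2, 0, 1, 0, 1, 2, 3, 2],
  [0, 2, 4, 0, 4, 0, 4, 0, 2, 4, 0, 4, 0, 4],
  [0, 2, 4, 2, 4, 2, 4, 0, 2, 4, 2, 4, 2, 4],
  [0, 3, 4, 3, 4, 3, 4, 0, 3, 4, 3, 4, 3, 4],
  [1, 2, 1, 2, 1, 2, 3, 1, 2, 1, 2, 1, 2, 3],
  [1, 2, 3, 1, 3, 1, 3, 1, 2, 3, 1, 3, 1, 3],
  [1, 2, 3, 2, 3, 2, 3, 1, 2, 3, 2, 3, 2, 3],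
  [1, 2, 4, 1, 4, 1, 4, 1, 2, 4, 1, 4, 1, 4],
  [0, 1, 2, 3, 2, 0, 1, 2, 3, 2, 0, 1, 2, 3, 2],
  [0, 1, 2, 4, 2, 0, 1, 2, 4, 2, 0, 1, 2, 4, 2],
  [0, 1, 3, 2, 3, 0, 1, 3, 2, 3, 0, 1, 3, 2, 3],
  [0, 1, 3, 4, 3, 0, 1, 3, 4, 3, 0, 1, 3, 4, 3],
  [0, 1, 4, 2, 4, 0, 1, 4, 2, 4, 0, 1, 4, 2, 4],
  [0, 1, 4, 3, 4, 0, 1, 4, 3, 4, 0, 1, 4, 3, 4],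
  [1, 4, 2, 3, 4, 1, 4, 2, 3, 4, 1, 4, 2, 3, 4],
  [0, 1, 0, 1, 3, 0, 1, 3, 0, 1, 0, 1, 3, 0, 1, 3],
  [0, 1, 2, 3, 2, 0, 1, 4, 0, 1, 2, 3, 2, 0, 1, 4],
  [0, 1, 2, 3, 2, 3, 2, 3, 0, 1, 2, 3, 2, 3, 2, 3],
  [0, 1, 3, 2, 3, 0, 1, 4, 0, 1, 3, 2, 3, 0, 1, 4],
  [0, 2, 3, 2, 0, 4, 1, 4, 0, 2, 3, 2, 0, 4, 1, 4],
  [1, 2, 1, 3, 1, 2, 1, 3, 1, 2, 1, 3, 1, 2, 1, 3],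
  [1, 2, 1, 3, 2, 1, 2, 3, 1, 2, 1, 3, 2, 1, 2, 3],
  [1, 2, 3, 1, 3, 2, 1, 3, 1, 2, 3, 1, 3, 2, 1, 3],
  [1, 2, 3, 2, 1, 2, 3, 2, 1, 2, 3, 2, 1, 2, 3, 2],
  [1, 2, 3, 2, 1, 3, 2, 3, 1, 2, 3, 2, 1, 3, 2, 3],
  [1, 2, 4, 2, 1, 3, 4, 3, 1, 2, 4, 2, 1, 3, 4, 3],
  [1, 3, 2, 3, 1, 3, 2, 3, 1, 3, 2, 3, 1, 3, 2, 3],
  [2, 3, 4, 3, 2, 4, 3, 4, 2, 3, 4, 3, 2, 4, 3, 4],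
  [0, 1, 2, 3, 2, 4, 0, 1, 2, 3, 2, 4, 0, 1, 2, 3, 2, 4],
  [0, 1, 3, 2, 3, 4, 0, 1, 3, 2, 3, 4, 0, 1, 3, 2, 3, 4],
  [0, 2, 0, 3, 2, 3, 0, 2, 0, 3, 2, 3, 0, 2, 0, 3, 2, 3],
  [0, 2, 0, 3, 4, 3, 0, 2, 0, 3, 4, 3, 0, 2, 0, 3, 4, 3],
  [0, 2, 4, 2, 0, 3, 0, 2, 4, 2, 0, 3, 0, 2, 4, 2, 0, 3],
  [0, 3, 2, 4, 2, 3, 0, 3, 2, 4, 2, 3, 0, 3, 2, 4, 2, 3],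
  [0, 3, 4, 2, 4, 3, 0, 3, 4, 2, 4, 3, 0, 3, 4, 2, 4, 3],
  [1, 2, 1, 2, 4, 2, 1, 2, 1, 2, 4, 2, 1, 2, 1, 2, 4, 2],
  [1, 2, 1, 3, 4, 3, 1, 2, 1, 3, 4, 3, 1, 2, 1, 3, 4, 3],
  [1, 2, 3, 2, 1, 4, 1, 2, 3, 2, 1, 4, 1, 2, 3, 2, 1, 4],
  [1, 2, 4, 2, 1, 3, 1, 2, 4, 2, 1, 3, 1, 2, 4, 2, 1, 3],
  [0, 1, 0, 2, 3, 1, 4, 0, 1, 0, 2, 3, 1, 4, 0, 1, 0, 2, 3, 1, 4],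
  [0, 1, 2, 0, 1, 2, 3, 0, 1, 2, 0, 1, 2, 3, 0, 1, 2, 0, 1, 2, 3],
  [0, 1, 2, 0, 1, 3, 2, 0, 1, 2, 0, 1, 3, 2, 0, 1, 2, 0, 1, 3, 2],
  [0, 1, 2, 0, 3, 0, 2, 0, 1, 2, 0, 3, 0, 2, 0, 1, 2, 0, 3, 0, 2],
  [0, 1, 2, 0, 3, 1, 2, 0, 1, 2, 0, 3, 1, 2, 0, 1, 2, 0, 3, 1, 2],
  [0, 1, 2, 1, 3, 0, 2, 0, 1, 2, 1, 3, 0, 2, 0, 1, 2, 1, 3, 0, 2],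
  [0, 1, 2, 3, 0, 3, 2, 0, 1, 2, 3, 0, 3, 2, 0, 1, 2, 3, 0, 3, 2],
  [0, 1, 2, 3, 1, 0, 3, 0, 1, 2, 3, 1, 0, 3, 0, 1, 2, 3, 1, 0, 3],
  [0, 1, 2, 3, 1, 3, 2, 0, 1, 2, 3, 1, 3, 2, 0, 1, 2, 3, 1, 3, 2],
  [0, 1, 2, 3, 2, 0, 4, 0, 1, 2, 3, 2, 0, 4, 0, 1, 2, 3, 2, 0, 4],
  [0, 1, 3, 0, 1, 3, 2, 0, 1, 3, 0, 1, 3, 2, 0, 1, 3, 0, 1, 3, 2],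
  [0, 1, 3, 0, 2, 0, 3, 0, 1, 3, 0, 2, 0, 3, 0, 1, 3, 0, 2, 0, 3],
  [0, 1, 3, 1, 2, 0, 3, 0, 1, 3, 1, 2, 0, 3, 0, 1, 3, 1, 2, 0, 3],
  [0, 1, 3, 1, 2, 1, 3, 0, 1, 3, 1, 2, 1, 3, 0, 1, 3, 1, 2, 1, 3],
  [0, 1, 3, 2, 0, 2, 3, 0, 1, 3, 2, 0, 2, 3, 0, 1, 3, 2, 0, 2, 3],
  [0, 1, 4, 1, 0, 2, 3, 0, 1, 4, 1, 0, 2, 3, 0, 1, 4, 1, 0, 2, 3],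
  [0, 2, 1, 2, 0, 2, 3, 0, 2, 1, 2, 0, 2, 3, 0, 2, 1, 2, 0, 2, 3],
  [0, 2, 1, 2, 3, 1, 2, 0, 2, 1, 2, 3, 1, 2, 0, 2, 1, 2, 3, 1, 2],
  [0, 2, 1, 3, 2, 4, 3, 0, 2, 1, 3, 2, 4, 3, 0, 2, 1, 3, 2, 4, 3],
  [0, 2, 1, 3, 4, 2, 3, 0, 2, 1, 3, 4, 2, 3, 0, 2, 1, 3, 4, 2, 3],
  [0, 2, 3, 4, 2, 1, 3, 0, 2, 3, 4, 2, 1, 3, 0, 2, 3, 4, 2, 1, 3],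
  [0, 1, 0, 2, 1, 3, 1, 3, 0, 1, 0, 2, 1, 3, 1, 3, 0, 1, 0, 2, 1, 3, 1, 3],
  [0, 1, 2, 0, 1, 3, 1, 3, 0, 1, 2, 0, 1, 3, 1, 3, 0, 1, 2, 0, 1, 3, 1, 3],
  [0, 1, 2, 0, 2, 0, 2, 3, 0, 1, 2, 0, 2, 0, 2, 3, 0, 1, 2, 0, 2, 0, 2, 3],
  [0, 1, 2, 1, 0, 3, 4, 3, 0, 1, 2, 1, 0, 3, 4, 3, 0, 1, 2, 1, 0, 3, 4, 3],
  [0, 1, 2, 3, 2, 4, 2, 3, 0, 1, 2, 3, 2, 4, 2, 3, 0, 1, 2, 3, 2, 4, 2, 3],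
  [0, 1, 3, 0, 2, 0, 1, 4, 0, 1, 3, 0, 2, 0, 1, 4, 0, 1, 3, 0, 2, 0, 1, 4],
  [0, 1, 3, 0, 3, 0, 3, 4, 0, 1, 3, 0, 3, 0, 3, 4, 0, 1, 3, 0, 3, 0, 3, 4],
  [0, 2, 0, 3, 1, 3, 0, 2, 0, 3, 1, 3, 0, 2, 0, 3, 1, 3, 0, 2, 0, 3, 1, 3],
  [0, 2, 1, 3, 0, 2, 4, 3, 0, 2, 1, 3, 0, 2, 4, 3, 0, 2, 1, 3, 0, 2, 4, 3],
  [0, 2, 4, 3, 2, 3, 1, 4, 0, 2, 4, 3, 2, 3, 1, 4, 0, 2, 4, 3, 2, 3, 1, 4]]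

end CfsgLib.J2.Perm
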