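import Cfsg.Agent.J2.Perm.Group
import Cfsg.Agent.Coset.Simple
import Mathlib.Tactic.IntervalCases

/-! Simplicity. -/

set_option autoImplicit false
set_option maxRecDepth 100000

namespace CfsgLib.J2.Perm

open CfsgLib.Coset

/-- The orbits of `H` on the other cosets. -/
noncomputable def certs : List OrbitCert := [⟨1, 63, D0P, D0Inv⟩, ⟨26, 36, D1P, D1Inv⟩]

theorem orbits_ok : checkOrbits T0.Tb 7 ([[0], [1], [2], [3]] : List (List Nat)) certs = true := by
  decide +kernel

theorem orbits_cov : checkCover 100 7 certs = true := by decide +kernel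

theorem letters_H : checkLetters (Lp).length ([[0], [1], [2], [3]] : List (List Nat)) = true := by
  rw [len_Lp]; decide +kernel

theorem H_eq : genW Lp [[0], [1], [2], [3]] = H := genW_singletons [0, 1, 2, 3]

theorem trans100 (i : Fin 100) : ∃ g, ρ100 g ⟨0, by decide⟩ = i :=
  (matches_ρ100.transitive (by decide) (by rw [len_Lp]; exact T0.htrans) i).imp fun _ h => h.2

theorem coatom : IsCoatom (pstab ρ100 ⟨0, by decide⟩) := by
  refine pstab_isCoatom_of_orbits matches_ρ100 (by decide) orbits_ok letters_H orbits_cov trans100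
    ?_ (H_eq.trans index_and_eq.2).le ?_ ?_
  · decide +kernel
  · decide +kernel
  · decide +kernel

theorem ρ100_injective : Function.Injective ρ100 := by
  have := finite_P
  have hl : ∀ g, checkLetters 5 g = true → checkLetters (Lp).length g = true := by
    intro g h; rwa [len_Lp]
  have h4 := card_ker_le (ρ := ρ100) [(0 : Fin 100), 1, 2, 3]
  have h3 := orbit_step matches_ρ100 (base := [(0 : Fin 100), 1, 2]) (β := 3) (m := 3) (dm := 2)
    (gens := K3G) (P := K3P) (Inv := K3Inv)
    (by decide +kernel) (hl _ (by decide +kernel)) (by decide +kernel) h4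
  have h2 := orbit_step matches_ρ100 (base := [(0 : Fin 100), 1]) (β := 2) (m := 32) (dm := 5)
    (gens := K2G) (P := K2P) (Inv := K2Inv)
    (by decide +kernel) (hl _ (by decide +kernel)) (by decide +kernel) h3
  have h1 := orbit_step matches_ρ100 (base := [(0 : Fin 100)]) (β := 1) (m := 63) (dm := 6)
    (gens := K1G) (P := K1P) (Inv := K1Inv)
    (by decide +kernel) (hl _ (by decide +kernel)) (by decide +kernel) h2
  have h0 := orbit_step matches_ρ100 (base := []) (β := 0) (m := 100) (dm := 7)
    (gens := K0G) (P := K0P) (Inv := K0Inv)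
    (by decide +kernel) (hl _ (by decide +kernel)) (by decide +kernel) h1
  exact (card_eq_and_injective (by norm_num : 0 < 604800) card_le.2
    (by simpa [← mul_assoc] using h0)).2

theorem conjs_ok : (List.range 5).all (fun l =>
    let p := conjs.getD l ([], [])
    let w := p.1 ++ uw.reverse ++ p.1.reverse ++ (p.2 ++ uw ++ p.2.reverse)
    checkLetters 5 [w] && checkLetters 5 [p.1] && checkLetters 5 [p.2] &&
      allList (fun b => Nat.beq (follow (tget Tb) b [l]) (follow (tget Tb) b w))
        (base.map Fin.val)) = true := by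
  decide +kernel

theorem gen_of_u (N : Subgroup P) (hN : N.Normal) (hu : ev Lp uw ∈ N) : N = ⊤ := by
  have hr : ∀ w : List Nat, ev Lp w.reverse = (ev Lp w)⁻¹ := by
    intro w
    induction w with
    | nil => simp
    | cons l w ih =>
      simp only [List.reverse_cons, ev_append, ih, ev_cons, ev_nil, mul_one, mul_inv_rev,
        inv_eq_of_mul_eq_one_right (sq_all l)]
  rw [eq_top_iff, ← closure_numGens, Subgroup.closure_le]
  intro x hx
  obtain ⟨i, -, rfl⟩ := List.mem_map.mp hx
  rw [← fl_numGens i]
  have h := List.all_eq_true.mp conjs_ok i.val (List.mem_range.mpr i.isLt)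
  simp only [Bool.and_eq_true] at h
  obtain ⟨⟨⟨hw, -⟩, -⟩, hb⟩ := h
  have hi : checkLetters 5 [[i.val]] = true := by
    have : ∀ j : Fin 5, checkLetters 5 [[j.val]] = true := by decide +kernel
    exact this i
  have e := ev_eq_of_base hi hw hb
  have e' : fl Lp i.val = ev Lp [i.val] := by simp
  show fl Lp i.val ∈ N
  rw [e', e, ev_append, ev_append, ev_append, ev_append, ev_append, hr, hr, hr]
  exact mul_mem (hN.conj_mem _ (inv_mem hu) _) (hN.conj_mem _ hu _)

theorem isSimple : IsSimpleGroup P := by
  have := finite_P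
  have : Fact (Nat.Prime 5) := ⟨by norm_num⟩
  refine isSimpleGroup_of_action (by decide) ρ100_injective trans100 coatom (p := 5) (a := 2)
    (by norm_num) ?_ (ev Lp uw) ?_ gen_of_u
  · rw [card_P]; norm_num
  · rw [pow_ev, show ev Lp (List.replicate (5 ^ 2) uw).flatten = ev Lp [] from
      ev_eq_of_base (by decide +kernel) (by decide +kernel) (by decide +kernel), ev_nil]

theorem noncomm : ∃ a b : P, a * b ≠ b * a := by
  refine ⟨fl Lp 0, fl Lp 2, fun h => ?_⟩
  have h' := congrArg (fun g : P => ((ρ g)⁻¹ ⟨301, by decide⟩ : Fin 315).val) h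
  rw [show fl Lp 0 * fl Lp 2 = ev Lp [0, 2] by simp, show fl Lp 2 * fl Lp 0 = ev Lp [2, 0] by simp,
    matches_ρ.follow_eq _ _ (by rw [len_Lp]; decide), matches_ρ.follow_eq _ _ (by rw [len_Lp]; decide)]
    at h'
  exact absurd h' (by decide +kernel)

end CfsgLib.J2.Perm
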