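import Cfsg.Agent.J2.Perm.Simple
import Cfsg.Agent.Monster.ExtraBasics
import Mathlib.GroupTheory.SpecificGroups.Alternating

/-! The centraliser of a generator: an extraspecial group of order 32 extended by `A₅`. -/

set_option autoImplicit false
set_option maxRecDepth 100000

namespace CfsgLib.J2.Perm

open CfsgLib.Coset

theorem ev_reverse (w : List Nat) : ev Lp w.reverse = (ev Lp w)⁻¹ := by
  induction w with
  | nil => simp
  | cons l w ih =>
    simp only [List.reverse_cons, ev_append, ih, ev_cons, ev_nil, mul_one, mul_inv_rev,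
      inv_eq_of_mul_eq_one_right (sq_all l)]

theorem ρ_follow {w : List Nat} (hw : ∀ l ∈ w, l < 5) (i : Fin 315) :
    ((ρ (ev Lp w) i : Fin 315) : Nat) = follow (tget Tb) i w.reverse := by
  rw [← matches_ρ.follow_eq w.reverse i (fun l hl => by
    rw [len_Lp]; exact hw l (List.mem_reverse.mp hl)), ev_reverse, map_inv, inv_inv]

/-- The involution. -/
noncomputable def z : P := fl Lp 0

theorem z_sq : z * z = 1 := sq_all 0

/-- The centraliser. -/
noncomputable def C : Subgroup P := Subgroup.centralizer {z}

/-- The stabiliser of the line of `z`. -/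
noncomputable def S1 : Subgroup P := pstab ρ 1

theorem card_S1 : Nat.card S1 = 1920 := by
  have := finite_P
  have hl : checkLetters (Lp).length G0G = true := by rw [len_Lp]; decide +kernel
  have h0 := (matches_ρ.orbit_le (β := (1 : Fin 315)) (m := 315) (dm := 9) (gens := G0G) (P := G0P)
    (Inv := G0Inv) (by decide +kernel) hl (S := ⊤) (fun _ _ => Subgroup.mem_top _)).1
  have h1 := card_orb_mul (ρ := ρ) ⊤ (1 : Fin 315)
  have h2 : (orb ρ ⊤ (1 : Fin 315)).ncard ≤ 315 := by
    refine (Set.ncard_le_ncard (Set.subset_univ _)).trans ?_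
    rw [Set.ncard_univ, Nat.card_fin]
  rw [le_antisymm h2 h0, top_inf_eq, Subgroup.card_top, card_P] at h1
  change 315 * Nat.card S1 = 604800 at h1
  omega

theorem gens_comm : (G1G.all fun w => checkLetters 5 [w] && checkLetters 5 [w ++ [0]] &&
    checkLetters 5 [0 :: w] &&
    allList (fun b => Nat.beq (follow (tget Tb) b (w ++ [0])) (follow (tget Tb) b (0 :: w)))
      (base.map Fin.val)) = true := by decide +kernel

theorem genW_le_C : genW Lp G1G ≤ C := by
  refine (Subgroup.closure_le _).mpr ?_
  rintro _ ⟨w, hw, rfl⟩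
  have h := List.all_eq_true.mp gens_comm w hw
  simp only [Bool.and_eq_true] at h
  obtain ⟨⟨⟨-, h1⟩, h2⟩, h3⟩ := h
  have e := ev_eq_of_base h1 h2 h3
  rw [SetLike.mem_coe, C, Subgroup.mem_centralizer_singleton_iff]
  simpa [ev_append, z] using e

theorem letters_G1 : checkLetters (Lp).length G1G = true := by rw [len_Lp]; decide +kernel

/-- The word of a signed product of the generators of the stabiliser. -/
def sWord (f : List (Nat × Bool)) : List Nat :=
  (f.map fun t => cond t.2 (G1G.getD t.1 []).reverse (G1G.getD t.1 [])).flatten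

theorem sWord_mem : ∀ f : List (Nat × Bool), ev Lp (sWord f) ∈ genW Lp G1G := by
  intro f
  induction f with
  | nil => simp [sWord]
  | cons t f ih =>
    rw [sWord, List.map_cons, List.flatten_cons, ev_append]
    refine mul_mem ?_ ih
    have hm : ev Lp (G1G.getD t.1 []) ∈ genW Lp G1G := by
      rcases lt_or_ge t.1 G1G.length with h | h
      · rw [List.getD_eq_getElem _ _ h]; exact ev_mem_genW (List.getElem_mem h)
      · rw [List.getD_eq_default _ _ h, ev_nil]; exact one_mem _
    cases t.2
    · exact hm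
    · rw [cond_true, ev_reverse]; exact inv_mem hm

theorem C1G_eq : C1G = C1I.map sWord := by decide +kernel

theorem genW_eq_S1 : genW Lp G1G = S1 := by
  have := finite_P
  refine Subgroup.eq_of_le_of_card_ge ?_ ?_
  · exact genW_le_pstab matches_ρ 1 letters_G1 (by decide +kernel)
  · rw [card_S1]
    have hb : 0 < Nat.card (genW Lp G1G ⊓ baseStab ρ [(15 : Fin 315), 0] : Subgroup P) :=
      Nat.card_pos
    have h1 := orbit_step_in matches_ρ (genW Lp G1G) (base := [(15 : Fin 315)]) (β := 0) (m := 12)
      (dm := 4) (gens := C1G) (P := C1P) (Inv := C1Inv)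
      (by decide +kernel) (by rw [len_Lp]; decide +kernel) (by decide +kernel)
      (fun w hw => by
        obtain ⟨f, -, rfl⟩ := List.mem_map.mp (C1G_eq ▸ hw)
        exact sWord_mem f) hb
    have h0 := orbit_step_in matches_ρ (genW Lp G1G) (base := []) (β := 15) (m := 160) (dm := 8)
      (gens := C0G) (P := C0P) (Inv := C0Inv)
      (by decide +kernel) (by rw [len_Lp]; decide +kernel) (by decide +kernel)
      (fun w hw => ev_mem_genW (show w ∈ G1G from hw)) h1
    have e : Nat.card (genW Lp G1G ⊓ baseStab ρ ([] : List (Fin 315)) : Subgroup P) =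
        Nat.card (genW Lp G1G) := by simp [baseStab]
    rw [e] at h0
    omega
theorem fix_ok : (fixWords.all fun w => checkLetters 5 [w] && checkLetters 5 [w ++ [0]] &&
    checkLetters 5 [0 :: w] &&
    !allList (fun b => Nat.beq (follow (tget Tb) b (w ++ [0])) (follow (tget Tb) b (0 :: w)))
      (base.map Fin.val)) = true := by decide +kernel

theorem fix_cover : ((List.range 315).all fun j => Nat.beq j 1 || !Nat.beq (tget Tb j 0) j ||
    fixWords.any fun w => Nat.beq (follow (tget Tb) 1 w) j) = true := by decide +kernel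

theorem z_fix : ρ z 1 = 1 := by
  have h : ev Lp [0] = z := by simp [z]
  rw [← h]
  exact (matches_ρ.fix_iff (fun l hl => by simp_all [len_Lp])).mpr (by decide +kernel)

theorem C_eq_genW : C = genW Lp G1G := by
  refine le_antisymm (fun g hg => ?_) genW_le_C
  rw [genW_eq_S1, S1, mem_pstab]
  rw [C, Subgroup.mem_centralizer_singleton_iff] at hg
  by_contra hne
  set j := ρ g 1 with hj
  have hfix : ρ z j = j := by
    rw [hj, ← Equiv.Perm.mul_apply, ← map_mul,
      show z * g = g * z from hg.symm, map_mul, Equiv.Perm.mul_apply, z_fix]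
  have hc := List.all_eq_true.mp fix_cover j.val (List.mem_range.mpr j.isLt)
  simp only [Bool.or_eq_true, Bool.not_eq_true'] at hc
  rcases hc with (hc | hc) | hc
  · exact hne (Fin.ext (Nat.eq_of_beq_eq_true hc))
  · have h0 : tget Tb j.val 0 = j.val := by
      rw [← matches_ρ 0 (by rw [len_Lp]; norm_num) j]
      exact congrArg Fin.val ((Equiv.symm_apply_eq _).mpr hfix.symm)
    rw [h0] at hc
    simp at hc
  · obtain ⟨w, hw, he⟩ := List.any_eq_true.mp hc
    have hk := List.all_eq_true.mp fix_ok w hw
    simp only [Bool.and_eq_true, Bool.not_eq_true'] at hk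
    obtain ⟨⟨⟨hl, h1⟩, h2⟩, h3⟩ := hk
    have hlet := letters_lt hl w (by simp)
    have hw' : ρ (ev Lp w.reverse) 1 = j := Fin.ext (by
      rw [ρ_follow (fun l hl => hlet l (List.mem_reverse.mp hl)) 1, List.reverse_reverse]
      exact Nat.eq_of_beq_eq_true he)
    have hs : (ev Lp w.reverse)⁻¹ * g ∈ S1 := by
      rw [S1, mem_pstab, map_mul, map_inv, Equiv.Perm.mul_apply, ← hj, Equiv.Perm.inv_def,
        Equiv.symm_apply_eq, hw']
    rw [← genW_eq_S1] at hs
    have hs' := genW_le_C hs
    rw [C, Subgroup.mem_centralizer_singleton_iff, ev_reverse, inv_inv] at hs'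
    have hwz : ev Lp w * z = z * ev Lp w := by
      have e : ev Lp w * (g * z) = z * (ev Lp w * g) := by rw [← mul_assoc]; exact hs'
      rw [hg, ← mul_assoc, ← mul_assoc] at e
      exact mul_right_cancel e
    have e : ev Lp (w ++ [0]) = ev Lp (0 :: w) := by simpa [ev_append, z] using hwz
    -- equal elements agree on the base
    have : allList (fun b => Nat.beq (follow (tget Tb) b (w ++ [0])) (follow (tget Tb) b (0 :: w)))
        (base.map Fin.val) = true := by
      refine allList_iff.mpr fun b hb => ?_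
      obtain ⟨i, -, rfl⟩ := List.mem_map.mp hb
      rw [← matches_ρ.follow_eq _ i (by rw [len_Lp]; exact letters_lt h1 _ (by simp)),
        ← matches_ρ.follow_eq _ i (by rw [len_Lp]; exact letters_lt h2 _ (by simp)), e]
      exact Nat.beq_refl _
    rw [this] at h3
    exact Bool.noConfusion h3

theorem card_C : Nat.card C = 1920 := by rw [C_eq_genW, genW_eq_S1, card_S1]

/-- A block: two lines. -/
def blk (k : Fin 5) : List Nat := blocks.getD k.val []

/-- The images of the blocks. -/
def Maps (g : P) (p : Equiv.Perm (Fin 5)) : Prop :=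
  ∀ k : Fin 5, ∀ i : Fin 315, i.val ∈ blk k → (ρ g i).val ∈ blk (p k)

theorem maps_one : Maps 1 1 := fun _ _ h => by simpa using h

theorem Maps.mul {g h : P} {p q : Equiv.Perm (Fin 5)} (hg : Maps g p) (hh : Maps h q) :
    Maps (g * h) (p * q) := fun k i hi => by
  rw [map_mul, Equiv.Perm.mul_apply, Equiv.Perm.mul_apply]; exact hg _ _ (hh k i hi)

theorem blk_pts : ∀ k : Fin 5, (blk k).all (fun a => decide (a < 315)) &&
    !(blk k).isEmpty && decide (∀ j : Fin 5, (blk k).getD 0 0 ∈ blk j → j = k) = true := by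
  decide +kernel

theorem Maps.unique {g : P} {p q : Equiv.Perm (Fin 5)} (hp : Maps g p) (hq : Maps g q)
    (hinv : ∀ j k : Fin 5, ∀ a, a ∈ blk j → a ∈ blk k → j = k) : p = q :=
  Equiv.ext fun k => by
    have h := blk_pts k
    simp only [Bool.and_eq_true, List.all_eq_true, Bool.not_eq_true', decide_eq_true_eq] at h
    obtain ⟨⟨h1, h2⟩, -⟩ := h
    obtain ⟨a, ha⟩ := List.exists_mem_of_ne_nil _ (by simpa using h2)
    exact hinv _ _ _ (hp k ⟨a, h1 a ha⟩ ha) (hq k ⟨a, h1 a ha⟩ ha)

theorem blk_disjoint : ∀ j k : Fin 5, ∀ a, a ∈ blk j → a ∈ blk k → j = k := by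
  have h : ∀ j k : Fin 5, (blk j).all (fun a => decide (a ∈ blk k → j = k)) = true := by
    decide +kernel
  intro j k a ha hb
  exact of_decide_eq_true (List.all_eq_true.mp (h j k) a ha) hb

/-- The block of a line. -/
def blkOf (a : Nat) : Fin 5 := ((List.finRange 5).find? fun k => (blk k).contains a).getD 0

/-- The block map of a word. -/
noncomputable def wordMap (w : List Nat) (k : Fin 5) : Fin 5 :=
  blkOf (follow (tget Tb) ((blk k).getD 0 0) w.reverse)

/-- A word permutes the blocks, as an even permutation. -/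
noncomputable def wordMaps (w : List Nat) : Bool :=
  checkLetters 5 [w] && decide (Function.Injective (wordMap w)) &&
  decide (∀ k : Fin 5, ∀ a ∈ blk k, follow (tget Tb) a w.reverse ∈ blk (wordMap w k))

theorem maps_word {w : List Nat} (h : wordMaps w = true) :
    ∃ p : Equiv.Perm (Fin 5), (∀ k, p k = wordMap w k) ∧ Maps (ev Lp w) p := by
  simp only [wordMaps, Bool.and_eq_true, decide_eq_true_eq] at h
  obtain ⟨⟨hl, hi⟩, hm⟩ := h
  refine ⟨Equiv.ofBijective _ ⟨hi, Finite.surjective_of_injective hi⟩, fun k => rfl, ?_⟩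
  intro k i hk
  rw [ρ_follow (letters_lt hl w (by simp)) i]
  exact hm k i.val hk

theorem gens_maps : (G1G.all wordMaps) = true := by decide +kernel

theorem exists_maps {g : P} (hg : g ∈ C) : ∃ p, Maps g p := by
  have := finite_P
  rw [C_eq_genW] at hg
  have h : g ∈ Submonoid.closure (ev Lp '' {w | w ∈ G1G}) := by
    rw [← Subgroup.closure_toSubmonoid_of_finite]; exact hg
  induction h using Submonoid.closure_induction with
  | mem x hx =>
    obtain ⟨w, hw, rfl⟩ := hx
    obtain ⟨p, -, hp⟩ := maps_word (List.all_eq_true.mp gens_maps w hw)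
    exact ⟨p, hp⟩
  | one => exact ⟨1, maps_one⟩
  | mul a b ha hb iha ihb =>
    obtain ⟨p, hp⟩ := iha (Subgroup.le_closure_toSubmonoid _ ha)
    obtain ⟨q, hq⟩ := ihb (Subgroup.le_closure_toSubmonoid _ hb)
    exact ⟨p * q, hp.mul hq⟩

/-- The action on the five blocks. -/
noncomputable def η : C →* Equiv.Perm (Fin 5) :=
  MonoidHom.mk' (fun g => (exists_maps g.2).choose) fun a b =>
    (exists_maps (a * b).2).choose_spec.unique
      ((exists_maps a.2).choose_spec.mul (exists_maps b.2).choose_spec) blk_disjoint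

theorem η_eq {g : C} {p : Equiv.Perm (Fin 5)} (h : Maps g.1 p) : η g = p :=
  (exists_maps g.2).choose_spec.unique h blk_disjoint

theorem gens_even : ∀ p : Equiv.Perm (Fin 5), ∀ t : Fin 4,
    (∀ k, p k = wordMap (G1G.getD t.val []) k) → Equiv.Perm.sign p = 1 := by decide +kernel

theorem range_le : η.range ≤ alternatingGroup (Fin 5) := by
  rintro _ ⟨⟨g, hg⟩, rfl⟩
  suffices H : ∀ g : P, g ∈ genW Lp G1G → ∃ p, Maps g p ∧ Equiv.Perm.sign p = 1 by
    obtain ⟨p, hp, hs⟩ := H g (C_eq_genW ▸ hg)
    rw [Equiv.Perm.mem_alternatingGroup, η_eq (g := ⟨g, hg⟩) hp, hs]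
  have := finite_P
  intro g hg
  have h : g ∈ Submonoid.closure (ev Lp '' {w | w ∈ G1G}) := by
    rw [← Subgroup.closure_toSubmonoid_of_finite]; exact hg
  induction h using Submonoid.closure_induction with
  | mem x hx =>
    obtain ⟨w, hw, rfl⟩ := hx
    obtain ⟨t, ht, rfl⟩ := List.getElem_of_mem hw
    obtain ⟨p, hpk, hp⟩ := maps_word (List.all_eq_true.mp gens_maps _ (List.getElem_mem ht))
    have ht4 : t < 4 := (show G1G.length = 4 by decide +kernel) ▸ ht
    exact ⟨p, hp, gens_even p ⟨t, ht4⟩ fun k => by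
      rw [hpk, List.getD_eq_getElem _ _ ht]⟩
  | one => exact ⟨1, maps_one, by simp⟩
  | mul a b ha hb iha ihb =>
    obtain ⟨p, hp, hs⟩ := iha (Subgroup.le_closure_toSubmonoid _ ha)
    obtain ⟨q, hq, hs'⟩ := ihb (Subgroup.le_closure_toSubmonoid _ hb)
    exact ⟨p * q, hp.mul hq, by rw [map_mul, hs, hs', mul_one]⟩

theorem words_ok : ((altWords ++ qWords).all fun w => wordMaps w &&
    allList (fun b => Nat.beq (follow (tget Tb) b w) b) [1]) = true := by decide +kernel

theorem mem_C_word {w : List Nat} (h : w ∈ altWords ++ qWords) : ev Lp w ∈ C := by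
  have h' := List.all_eq_true.mp words_ok w h
  simp only [Bool.and_eq_true, wordMaps] at h'
  rw [C_eq_genW, genW_eq_S1]
  refine (matches_ρ.fix_iff (fun l hl => by
    rw [len_Lp]; exact letters_lt h'.1.1.1 w (by simp) l hl)).mpr ?_
  exact Nat.eq_of_beq_eq_true (allList_iff.mp h'.2 1 (by simp))

/-- An element given by a word. -/
noncomputable def altElt (t : Fin 60) : C :=
  ⟨ev Lp (altWords.getD t.val []), mem_C_word (List.mem_append_left _ (by
    have h : t.val < altWords.length := by
      rw [show altWords.length = 60 by decide +kernel]; exact t.isLt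
    rw [List.getD_eq_getElem _ _ h]; exact List.getElem_mem h))⟩

theorem alt_distinct : ((List.finRange 60).map fun t =>
    (List.finRange 5).map (wordMap (altWords.getD t.val []))).Nodup := by decide +kernel

theorem range_eq : η.range = alternatingGroup (Fin 5) := by
  refine Subgroup.eq_of_le_of_card_ge range_le ?_
  rw [show Nat.card (alternatingGroup (Fin 5)) = 60 by
    rw [Nat.card_eq_fintype_card]; decide]
  have hinj : Function.Injective fun t : Fin 60 =>
      (⟨η (altElt t), altElt t, rfl⟩ : η.range) := by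
    intro a b hab
    have e : η (altElt a) = η (altElt b) := congrArg Subtype.val hab
    have key : ∀ t : Fin 60, ∀ k, η (altElt t) k = wordMap (altWords.getD t.val []) k := by
      intro t k
      have hmem : altWords.getD t.val [] ∈ altWords ++ qWords := List.mem_append_left _ (by
        have h : t.val < altWords.length := by
          rw [show altWords.length = 60 by decide +kernel]; exact t.isLt
        rw [List.getD_eq_getElem _ _ h]; exact List.getElem_mem h)
      have h' := List.all_eq_true.mp words_ok _ hmem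
      rw [Bool.and_eq_true] at h'
      obtain ⟨p, hpk, hp⟩ := maps_word h'.1
      rw [η_eq (g := altElt t) hp, hpk]
    exact List.inj_on_of_nodup_map alt_distinct (List.mem_finRange a) (List.mem_finRange b)
      (List.map_congr_left fun k _ => by rw [← key a k, ← key b k, e])
  simpa using Nat.card_le_card_of_injective _ hinj

/-- The normal subgroup of order 32. -/
noncomputable def Q : Subgroup C := η.ker

theorem card_Q : Nat.card Q = 32 := by
  have h := Subgroup.card_mul_index η.ker
  rw [Subgroup.index_ker, range_eq, card_C,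
    show Nat.card (alternatingGroup (Fin 5)) = 60 by rw [Nat.card_eq_fintype_card]; decide] at h
  show Nat.card η.ker = 32
  omega

/-- The quotient. -/
noncomputable def quotQ : C ⧸ η.ker ≃* alternatingGroup (Fin 5) :=
  (QuotientGroup.quotientKerEquivRange η).trans (MulEquiv.subgroupCongr range_eq)

theorem q_len : qWords.length = 32 := by decide +kernel

theorem q_mem (t : Fin 32) : qWords.getD t.val [] ∈ altWords ++ qWords :=
  List.mem_append_right _ (by
    rw [List.getD_eq_getElem _ _ (q_len.symm ▸ t.isLt)]; exact List.getElem_mem _)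

theorem q_fixed : ∀ t : Fin 32, ∀ k : Fin 5, wordMap (qWords.getD t.val []) k = k := by
  decide +kernel

/-- An element of `Q` given by a word. -/
noncomputable def qElt (t : Fin 32) : Q :=
  ⟨⟨ev Lp (qWords.getD t.val []), mem_C_word (q_mem t)⟩, by
    have h' := List.all_eq_true.mp words_ok _ (q_mem t)
    rw [Bool.and_eq_true] at h'
    obtain ⟨p, hpk, hp⟩ := maps_word h'.1
    show η _ = 1
    rw [η_eq (g := ⟨_, mem_C_word (q_mem t)⟩) hp]
    exact Equiv.ext fun k => (hpk k).trans (q_fixed t k)⟩

/-- two words give the same element -/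
noncomputable def sameW (v w : List Nat) : Bool :=
  checkLetters 5 [v] && checkLetters 5 [w] &&
  allList (fun b => Nat.beq (follow (tget Tb) b v) (follow (tget Tb) b w)) (base.map Fin.val)

theorem sameW_eq {v w : List Nat} (h : sameW v w = true) : ev Lp v = ev Lp w := by
  simp only [sameW, Bool.and_eq_true] at h
  exact ev_eq_of_base h.1.1 h.1.2 h.2

theorem q_distinct : ((List.finRange 32).map fun t =>
    (base.map Fin.val).map fun b => follow (tget Tb) b (qWords.getD t.val [])).Nodup := by
  decide +kernel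

theorem qElt_bijective : Function.Bijective qElt := by
  have := finite_P
  have hl : ∀ t : Fin 32, ∀ l ∈ qWords.getD t.val [], l < (Lp).length := by
    rw [len_Lp]; decide +kernel
  have hi : Function.Injective qElt := by
    intro a b hab
    have e : ev Lp (qWords.getD a.val []) = ev Lp (qWords.getD b.val []) :=
      congrArg (fun x : Q => x.1.1) hab
    refine List.inj_on_of_nodup_map q_distinct (List.mem_finRange a) (List.mem_finRange b) ?_
    refine List.map_congr_left fun x hx => ?_
    obtain ⟨i, -, rfl⟩ := List.mem_map.mp hx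
    rw [← matches_ρ.follow_eq _ i (hl a), ← matches_ρ.follow_eq _ i (hl b), e]
  exact (Nat.bijective_iff_injective_and_card qElt).mpr ⟨hi, by rw [card_Q, Nat.card_fin]⟩

theorem q_table : ∀ a b : Fin 32, (sameW (qWords.getD a.val [] ++ qWords.getD b.val [])
      (qWords.getD ((qMul.getD a.val []).getD b.val 0) []) &&
    Nat.blt ((qMul.getD a.val []).getD b.val 0) 32) = true := by decide +kernel

/-- The multiplication table. -/
def qm (a b : Fin 32) : Fin 32 :=
  ⟨(qMul.getD a.val []).getD b.val 0, Nat.le_of_ble_eq_true (by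
    have h := q_table a b; rw [Bool.and_eq_true] at h; exact h.2)⟩

theorem qElt_mul (a b : Fin 32) : qElt a * qElt b = qElt (qm a b) := by
  have h := q_table a b
  rw [Bool.and_eq_true] at h
  refine Subtype.ext (Subtype.ext ?_)
  show ev Lp _ * ev Lp _ = ev Lp _
  rw [← ev_append]
  exact sameW_eq h.1

theorem q_facts : (∀ a b : Fin 32, (qm a b = qm b a ∨
      (qm (qm b a) 1 = qm a b))) ∧ (∀ a : Fin 32, qm a a = 0 ∨ qm a a = 1) ∧
    (∀ a : Fin 32, (∀ b : Fin 32, qm a b = qm b a) ↔ (a = 0 ∨ a = 1)) ∧
    (∀ a : Fin 32, qm a 0 = a ∧ qm 0 a = a) := by decide +kernel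

theorem qElt_zero : qElt 0 = 1 := by
  have h := qElt_mul 0 0
  rw [(q_facts.2.2.2 0).1] at h
  exact mul_eq_left.mp h

theorem center_Q : ∀ a : Fin 32, qElt a ∈ Subgroup.center Q ↔ (a = 0 ∨ a = 1) := by
  intro a
  rw [← q_facts.2.2.1 a, Subgroup.mem_center_iff]
  constructor
  · intro h b
    refine qElt_bijective.1 ?_
    rw [← qElt_mul, ← qElt_mul, h]
  · intro h g
    obtain ⟨b, rfl⟩ := qElt_bijective.2 g
    rw [qElt_mul, qElt_mul, h]

theorem extra : Cfsg.IsExtraspecial 2 Q := by
  have := finite_P
  refine CfsgLib.Monster.isExtraspecial_of (IsPGroup.of_card (n := 5) (by rw [card_Q]; rfl)) ?_ ?_ ?_ ?_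
  · have hs : ((Subgroup.center Q : Subgroup Q) : Set Q) = {qElt 0, qElt 1} := by
      ext g
      obtain ⟨a, rfl⟩ := qElt_bijective.2 g
      rw [SetLike.mem_coe, center_Q, Set.mem_insert_iff, Set.mem_singleton_iff,
        qElt_bijective.1.eq_iff, qElt_bijective.1.eq_iff]
    have := congrArg Set.ncard hs
    rw [Set.ncard_pair (fun h => absurd (qElt_bijective.1 h) (by decide))] at this
    exact (Nat.card_coe_set_eq _).trans this
  · intro x y
    obtain ⟨a, rfl⟩ := qElt_bijective.2 x
    obtain ⟨b, rfl⟩ := qElt_bijective.2 y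
    have key : qElt a * qElt b * (qElt a)⁻¹ * (qElt b)⁻¹ =
        qElt a * qElt b * (qElt b * qElt a)⁻¹ := by group
    have hone := (center_Q 1).mpr (Or.inr rfl)
    rw [key, qElt_mul, qElt_mul]
    rcases q_facts.1 a b with h | h
    · rw [h, mul_inv_cancel]; exact one_mem _
    · rw [← h, ← qElt_mul, Subgroup.mem_center_iff.mp hone (qElt (qm b a)), mul_inv_cancel_right]
      exact hone
  · intro x
    obtain ⟨a, rfl⟩ := qElt_bijective.2 x
    rw [qElt_mul, center_Q]
    exact q_facts.2.1 a
  · obtain ⟨b, hb⟩ : ∃ b, qm 2 b ≠ qm b 2 := by decide +kernel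
    exact ⟨qElt 2, qElt b, fun h => hb (qElt_bijective.1 (by rwa [← qElt_mul, ← qElt_mul]))⟩

end CfsgLib.J2.Perm
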