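import Cfsg.Agent.Coset.Table
import Cfsg.Agent.J2.Perm.T0Data

set_option autoImplicit false
set_option maxRecDepth 100000

namespace CfsgLib.J2.Perm.T0

open CfsgLib.Coset

/-- The relators on these letters. -/
def lrels : List (List Nat) := [[0, 0], [1, 1], [2, 2], [3, 3], [4, 4], [0, 1, 0, 1], [0, 2, 0, 2, 0, 2], [0, 3, 0, 3, 0, 3], [0, 4, 0, 4, 0, 4], [1, 2, 1, 2, 1, 2], [1, 3, 1, 3, 1, 3], [1, 4, 1, 4, 1, 4], [2, 3, 2, 3, 2, 3], [2, 4, 2, 4, 2, 4], [3, 4, 3, 4, 3, 4], [0, 1, 0, 2, 1, 2, 1, 2], [0, 1, 0, 3, 1, 3, 1, 3], [0, 1, 0, 4, 1, 4, 1, 4], [0, 1, 2, 0, 2, 0, 2, 1], [0, 1, 3, 0, 3, 0, 3, 1], [0, 1, 4, 0, 4, 0, 4, 1], [0, 1, 2, 0, 1, 2, 0, 1, 2, 0,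 1, 2], [0, 1, 2, 1, 0, 2, 0, 1, 2, 1, 0, 2], [0, 1, 3, 0, 1, 3, 0, 1, 3, 0, 1, 3], [0, 1, 3, 1, 0, 3, 0, 1, 3, 1, 0, 3], [0, 1, 4, 0, 1, 4, 0, 1, 4, 0, 1, 4], [0, 2, 0, 3, 0, 2, 0, 3, 0, 2, 0, 3], [0, 2, 3, 2, 0, 2, 3, 2, 0, 2, 3, 2], [0, 3, 1, 3, 0, 3, 1, 3, 0, 3, 1, 3], [0, 3, 2, 3, 0, 3, 2, 3, 0, 3, 2, 3], [0, 1, 0, 1, 2, 3, 2, 0, 1, 0, 1, 2, 3, 2], [0, 2, 4, 0, 4, 0, 4, 0, 2, 4, 0, 4, 0, 4], [0, 2, 4, 2, 4, 2, 4, 0, 2, 4, 2, 4, 2, 4], [0, 3, 4, 3, 4, 3, 4, 0, 3, 4, 3, 4, 3, 4], [1, 2, 1, 2, 1, 2, 3, 1, 2, 1, 2, 1, 2, 3], [1, 2, 3, 1, 3, 1, 3, 1, 2, 3, 1, 3, 1, 3], [1, 2, 3, 2, 3, 2, 3, 1, 2, 3, 2, 3, 2, 3], [1, 2, 4, 1, 4, 1, 4, 1, 2, 4, 1, 4, 1, 4], [0,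 1, 2, 3, 2, 0, 1, 2, 3, 2, 0, 1, 2, 3, 2], [0, 1, 2, 4, 2, 0, 1, 2, 4, 2, 0, 1, 2, 4, 2], [0, 1, 3, 2, 3, 0, 1, 3, 2, 3, 0, 1, 3, 2, 3], [0, 1, 3, 4, 3, 0, 1, 3, 4, 3, 0, 1, 3, 4, 3], [0, 1, 4, 2, 4, 0, 1, 4, 2, 4, 0, 1, 4, 2, 4], [0, 1, 4, 3, 4, 0, 1, 4, 3, 4, 0, 1, 4, 3, 4], [1, 4, 2, 3, 4, 1, 4, 2, 3, 4, 1, 4, 2, 3, 4], [0, 1, 0, 1, 3, 0, 1, 3, 0, 1, 0, 1, 3, 0, 1, 3], [0, 1, 2, 3, 2, 0, 1, 4, 0, 1, 2, 3, 2, 0, 1, 4], [0, 1, 2, 3, 2, 3, 2, 3, 0, 1, 2, 3, 2, 3, 2, 3], [0, 1, 3, 2, 3, 0, 1, 4, 0, 1, 3, 2, 3, 0, 1, 4], [0, 2, 3, 2, 0, 4, 1, 4, 0, 2, 3, 2, 0, 4, 1, 4], [1, 2, 1, 3, 1, 2, 1, 3, 1, 2, 1, 3, 1, 2, 1, 3], [1, 2, 1, 3, 2, 1, 2, 3, 1, 2, 1, 3, 2,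 1, 2, 3], [1, 2, 3, 1, 3, 2, 1, 3, 1, 2, 3, 1, 3, 2, 1, 3], [1, 2, 3, 2, 1, 2, 3, 2, 1, 2, 3, 2, 1, 2, 3, 2], [1, 2, 3, 2, 1, 3, 2, 3, 1, 2, 3, 2, 1, 3, 2, 3], [1, 2, 4, 2, 1, 3, 4, 3, 1, 2, 4, 2, 1, 3, 4, 3], [1, 3, 2, 3, 1, 3, 2, 3, 1, 3, 2, 3, 1, 3, 2, 3], [2, 3, 4, 3, 2, 4, 3, 4, 2, 3, 4, 3, 2, 4, 3, 4], [0, 1, 2, 3, 2, 4, 0, 1, 2, 3, 2, 4, 0, 1, 2, 3, 2, 4], [0, 1, 3, 2, 3, 4, 0, 1, 3, 2, 3, 4, 0, 1, 3, 2, 3, 4], [0, 2, 0, 3, 2, 3, 0, 2, 0, 3, 2, 3, 0, 2, 0, 3, 2, 3], [0, 2, 0, 3, 4, 3, 0, 2, 0, 3, 4, 3, 0, 2, 0, 3, 4, 3], [0, 2, 4, 2, 0, 3, 0, 2, 4, 2, 0, 3, 0, 2, 4, 2, 0, 3], [0, 3, 2, 4, 2, 3, 0, 3, 2, 4, 2, 3, 0, 3, 2, 4, 2, 3], [0, 3, 4, 2, 4, 3,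 0, 3, 4, 2, 4, 3, 0, 3, 4, 2, 4, 3], [1, 2, 1, 2, 4, 2, 1, 2, 1, 2, 4, 2, 1, 2, 1, 2, 4, 2], [1, 2, 1, 3, 4, 3, 1, 2, 1, 3, 4, 3, 1, 2, 1, 3, 4, 3], [1, 2, 3, 2, 1, 4, 1, 2, 3, 2, 1, 4, 1, 2, 3, 2, 1, 4], [1, 2, 4, 2, 1, 3, 1, 2, 4, 2, 1, 3, 1, 2, 4, 2, 1, 3], [0, 1, 0, 2, 3, 1, 4, 0, 1, 0, 2, 3, 1, 4, 0, 1, 0, 2, 3, 1, 4], [0, 1, 2, 0, 1, 2, 3, 0, 1, 2, 0, 1, 2, 3, 0, 1, 2, 0, 1, 2, 3], [0, 1, 2, 0, 1, 3, 2, 0, 1, 2, 0, 1, 3, 2, 0, 1, 2, 0, 1, 3, 2], [0, 1, 2, 0, 3, 0, 2, 0, 1, 2, 0, 3, 0, 2, 0, 1, 2, 0, 3, 0, 2], [0, 1, 2, 0, 3, 1, 2, 0, 1, 2, 0, 3, 1, 2, 0, 1, 2, 0, 3, 1, 2], [0, 1, 2, 1, 3, 0, 2, 0, 1, 2, 1, 3, 0, 2, 0, 1, 2, 1, 3, 0, 2], [0, 1, 2, 3,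 0, 3, 2, 0, 1, 2, 3, 0, 3, 2, 0, 1, 2, 3, 0, 3, 2], [0, 1, 2, 3, 1, 0, 3, 0, 1, 2, 3, 1, 0, 3, 0, 1, 2, 3, 1, 0, 3], [0, 1, 2, 3, 1, 3, 2, 0, 1, 2, 3, 1, 3, 2, 0, 1, 2, 3, 1, 3, 2], [0, 1, 2, 3, 2, 0, 4, 0, 1, 2, 3, 2, 0, 4, 0, 1, 2, 3, 2, 0, 4], [0, 1, 3, 0, 1, 3, 2, 0, 1, 3, 0, 1, 3, 2, 0, 1, 3, 0, 1, 3, 2], [0, 1, 3, 0, 2, 0, 3, 0, 1, 3, 0, 2, 0, 3, 0, 1, 3, 0, 2, 0, 3], [0, 1, 3, 1, 2, 0, 3, 0, 1, 3, 1, 2, 0, 3, 0, 1, 3, 1, 2, 0, 3], [0, 1, 3, 1, 2, 1, 3, 0, 1, 3, 1, 2, 1, 3, 0, 1, 3, 1, 2, 1, 3], [0, 1, 3, 2, 0, 2, 3, 0, 1, 3, 2, 0, 2, 3, 0, 1, 3, 2, 0, 2, 3], [0, 1, 4, 1, 0, 2, 3, 0, 1, 4, 1, 0, 2, 3, 0, 1, 4, 1, 0, 2, 3], [0, 2, 1, 2, 0, 2, 3, 0, 2,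 1, 2, 0, 2, 3, 0, 2, 1, 2, 0, 2, 3], [0, 2, 1, 2, 3, 1, 2, 0, 2, 1, 2, 3, 1, 2, 0, 2, 1, 2, 3, 1, 2], [0, 2, 1, 3, 2, 4, 3, 0, 2, 1, 3, 2, 4, 3, 0, 2, 1, 3, 2, 4, 3], [0, 2, 1, 3, 4, 2, 3, 0, 2, 1, 3, 4, 2, 3, 0, 2, 1, 3, 4, 2, 3], [0, 2, 3, 4, 2, 1, 3, 0, 2, 3, 4, 2, 1, 3, 0, 2, 3, 4, 2, 1, 3], [0, 1, 0, 2, 1, 3, 1, 3, 0, 1, 0, 2, 1, 3, 1, 3, 0, 1, 0, 2, 1, 3, 1, 3], [0, 1, 2, 0, 1, 3, 1, 3, 0, 1, 2, 0, 1, 3, 1, 3, 0, 1, 2, 0, 1, 3, 1, 3], [0, 1, 2, 0, 2, 0, 2, 3, 0, 1, 2, 0, 2, 0, 2, 3, 0, 1, 2, 0, 2, 0, 2, 3], [0, 1, 2, 1, 0, 3, 4, 3, 0, 1, 2, 1, 0, 3, 4, 3, 0, 1, 2, 1, 0, 3, 4, 3], [0, 1, 2, 3, 2, 4, 2, 3, 0, 1, 2, 3, 2, 4, 2, 3, 0, 1, 2, 3, 2, 4, 2, 3],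 [0, 1, 3, 0, 2, 0, 1, 4, 0, 1, 3, 0, 2, 0, 1, 4, 0, 1, 3, 0, 2, 0, 1, 4], [0, 1, 3, 0, 3, 0, 3, 4, 0, 1, 3, 0, 3, 0, 3, 4, 0, 1, 3, 0, 3, 0, 3, 4], [0, 2, 0, 3, 1, 3, 0, 2, 0, 3, 1, 3, 0, 2, 0, 3, 1, 3, 0, 2, 0, 3, 1, 3], [0, 2, 1, 3, 0, 2, 4, 3, 0, 2, 1, 3, 0, 2, 4, 3, 0, 2, 1, 3, 0, 2, 4, 3], [0, 2, 4, 3, 2, 3, 1, 4, 0, 2, 4, 3, 2, 3, 1, 4, 0, 2, 4, 3, 2, 3, 1, 4]]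

theorem hR : checkRules lrels subs R = true := by decide +kernel
theorem hdefs : checkDefs E 5 7 107 = true := by decide +kernel
theorem hsteps : checkChunks E id R 5 2 107 4 C = true := by decide +kernel
theorem htable : checkTable E id (107 + chunk * 4) 100 5 7 3 Rep Ref Tb = true := by decide +kernel
theorem htrans : checkTrans 100 5 7 Tb Par = true := by decide +kernel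

end CfsgLib.J2.Perm.T0
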