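import Cfsg.Agent.J2.Kernel
import Cfsg.Agent.Coset.Presented
import Cfsg.Agent.J2.Perm.Data
import Cfsg.Agent.J2.Perm.Rels
import Cfsg.Agent.J2.Perm.T0
import Cfsg.Agent.J2.Perm.T1
import Cfsg.Agent.J2.Perm.T2

/-! The group on the 315 lines has order 604800 and acts on 100 cosets. -/

set_option autoImplicit false
set_option maxRecDepth 100000

namespace CfsgLib.J2.Perm

open CfsgLib.Coset

/-- The presented group. -/
abbrev P : Type := NumGr 5 rels

/-- The generators. -/
noncomputable abbrev Lp : List P := numGens 5 rels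

theorem len_Lp : (Lp).length = 5 := length_numGens

theorem sq_all (x : Nat) : fl Lp x * fl Lp x = 1 := sq_numGens (by decide +kernel) x

theorem tb_perm : checkPerm id 315 5 9 3 Tb = true := by decide +kernel

theorem tb_rels : checkRels 315 9 Tb rels = true := by decide +kernel

theorem len_sig : (sigList tb_perm).length = 5 := by simp [sigList]

/-- The action on the lines. -/
noncomputable def ρ : P →* Equiv.Perm (Fin 315) :=
  numHom len_sig (ev_sigList_eq_one tb_perm tb_rels (by decide +kernel))

theorem matches_ρ : Matches Lp ρ Tb := by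
  intro l hl i
  rw [ρ, numHom_fl, fl_sigList, sig_symm_apply tb_perm (by rwa [len_Lp] at hl)]

theorem tb_gP : ∀ l : Fin 5, (List.range 315).all
    (fun i => Nat.beq (tget Tb i l.val) (gPerm l.val i)) = true := by decide +kernel

theorem ρ_gen (l : Fin 5) : ρ (fl Lp l.val) = gP l := by
  refine inv_injective (Equiv.ext fun i => Fin.ext ?_)
  rw [matches_ρ l.val (by rw [len_Lp]; exact l.isLt) i,
    Nat.eq_of_beq_eq_true (List.all_eq_true.mp (tb_gP l) i.val (List.mem_range.mpr i.isLt)),
    show (gP l)⁻¹ = gP l from Function.Involutive.toPerm_symm _]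
  rfl

theorem range_ρ : ρ.range = G315 := by
  rw [MonoidHom.range_eq_map, ← closure_numGens, MonoidHom.map_closure, G315]
  congr 1
  ext x
  constructor
  · rintro ⟨y, hy, rfl⟩
    obtain ⟨i, -, rfl⟩ := List.mem_map.mp hy
    exact ⟨i, by rw [← fl_numGens i, ρ_gen]⟩
  · rintro ⟨l, rfl⟩
    exact ⟨_, List.mem_map.mpr ⟨l, List.mem_finRange l, rfl⟩, by rw [← fl_numGens l, ρ_gen]⟩

theorem tb100_perm : checkPerm id 100 5 7 3 T0.Tb = true := by decide +kernel

theorem tb100_rels : checkRels 100 7 T0.Tb rels = true := by decide +kernel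

theorem len_sig100 : (sigList tb100_perm).length = 5 := by simp [sigList]

/-- The action on the cosets. -/
noncomputable def ρ100 : P →* Equiv.Perm (Fin 100) :=
  numHom len_sig100 (ev_sigList_eq_one tb100_perm tb100_rels (by decide +kernel))

theorem matches_ρ100 : Matches Lp ρ100 T0.Tb := by
  intro l hl i
  rw [ρ100, numHom_fl, fl_sigList, sig_symm_apply tb100_perm (by rwa [len_Lp] at hl)]

theorem level {S S' : List Nat} {rs subs : List (List Nat)} {E Rep Tb : Nat → Nat}
    {R : Tr (List Nat × Nat)} {d d' N nC dn dk n : Nat} {C Ref : Nat → Nat} (k : Nat)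
    (hk : S.length = k)
    (hc : checkLevel rels 5 S S' rs subs = true)
    (hR : checkRules rs subs R = true) (hd : checkDefs E k d' N = true)
    (hs : checkChunks E id R k d N nC C = true)
    (ht : checkTable E id (N + chunk * nC) n k dn dk Rep Ref Tb = true) :
    TableOK (lv Lp S) (genBy Lp S') E id n Rep Tb := by
  have hl : (lv Lp S).length = k := by simp [lv, hk]
  exact tableOK_of_check (inv_lv sq_all S) hR (hl.symm ▸ hd) (hl.symm ▸ hs) (hl.symm ▸ ht)
    (level_rels len_Lp hc ev_numGens) (level_subs len_Lp hc)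

/-- The subgroup of index 100. -/
noncomputable def H : Subgroup P := genBy Lp [0, 1, 2, 3]

theorem card_H_le : Finite H ∧ Nat.card H ≤ 6048 := by
  have c1 : checkLevel rels 5 [0, 1, 2, 3] [0, 2] T1.lrels T1.subs = true := by decide +kernel
  have c2 : checkLevel rels 5 [0, 2] [] T2.lrels T2.subs = true := by decide +kernel
  exact level_card (level 4 rfl c1 T1.hR T1.hdefs T1.hsteps T1.htable) (by decide) c1
    (level_card (level 2 rfl c2 T2.hR T2.hdefs T2.hsteps T2.htable) (by decide) c2 card_genBy_nil)

theorem top_lv : lv Lp [0, 1, 2, 3, 4] = Lp := by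
  have := lv_range (L := Lp)
  rwa [len_Lp] at this

theorem top_table : TableOK Lp H T0.E id 100 T0.Rep T0.Tb := by
  have c0 : checkLevel rels 5 [0, 1, 2, 3, 4] [0, 1, 2, 3] T0.lrels T0.subs = true := by
    decide +kernel
  have h := level 5 rfl c0 T0.hR T0.hdefs T0.hsteps T0.htable
  rwa [top_lv] at h

theorem card_le : Finite P ∧ Nat.card P ≤ 604800 := by
  have c0 : checkLevel rels 5 [0, 1, 2, 3, 4] [0, 1, 2, 3] T0.lrels T0.subs = true := by
    decide +kernel
  have h := level_card (level 5 rfl c0 T0.hR T0.hdefs T0.hsteps T0.htable) (by decide) c0 card_H_le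
  have ht : genBy Lp [0, 1, 2, 3, 4] = ⊤ := by
    have := genBy_range (L := Lp) closure_numGens
    rwa [len_Lp] at this
  rw [ht, Subgroup.card_top] at h
  obtain ⟨hf, hc⟩ := h
  exact ⟨Finite.of_equiv _ Subgroup.topEquiv.toEquiv, hc.trans (by norm_num)⟩

theorem finite_P : Finite P := card_le.1

/-- A base. -/
def base : List (Fin 315) := [1, 301, 77]

theorem lower : 604800 * Nat.card (baseStab ρ base) ≤ Nat.card P := by
  have hl : ∀ g, checkLetters 5 g = true → checkLetters (Lp).length g = true := by
    intro g h; rwa [len_Lp]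
  have h3 : Nat.card (baseStab ρ base) ≤ Nat.card (baseStab ρ [(1 : Fin 315), 301, 77]) := le_rfl
  have h2 := orbit_step matches_ρ (base := [(1 : Fin 315), 301]) (β := 77) (m := 12) (dm := 4)
    (gens := G2G) (P := G2P) (Inv := G2Inv)
    (by decide +kernel) (hl _ (by decide +kernel)) (by decide +kernel) h3
  have h1 := orbit_step matches_ρ (base := [(1 : Fin 315)]) (β := 301) (m := 160) (dm := 8)
    (gens := G1G) (P := G1P) (Inv := G1Inv)
    (by decide +kernel) (hl _ (by decide +kernel)) (by decide +kernel) h2
  have h0 := orbit_step matches_ρ (base := []) (β := 1) (m := 315) (dm := 9)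
    (gens := G0G) (P := G0P) (Inv := G0Inv)
    (by decide +kernel) (hl _ (by decide +kernel)) (by decide +kernel) h1
  have e : Nat.card (baseStab ρ ([] : List (Fin 315))) = Nat.card P := by simp [baseStab]
  rw [e] at h0
  simpa [← mul_assoc] using h0

theorem base_bot : baseStab ρ base = ⊥ :=
  have := finite_P
  baseStab_eq_bot (by norm_num) card_le.2 base lower

theorem card_P : Nat.card P = 604800 := by
  have := lower
  rw [base_bot, Subgroup.card_bot] at this
  have := card_le.2
  omega

theorem ρ_injective : Function.Injective ρ := by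
  have := finite_P
  refine (MonoidHom.ker_eq_bot_iff ρ).mp (eq_bot_iff.mpr ?_)
  rw [← base_bot]
  intro g hg
  refine (mem_foldl_inf base ⊤).mpr ⟨trivial, fun b _ => ?_⟩
  rw [mem_pstab, MonoidHom.mem_ker.mp hg]; rfl

theorem card_G315 : Nat.card G315 = 604800 := by
  rw [← range_ρ, ← Nat.card_congr (MonoidHom.ofInjective ρ_injective).toEquiv, card_P]

theorem index_and_eq : H.index = 100 ∧ H = pstab ρ100 ⟨0, by decide⟩ :=
  exact_index top_table matches_ρ100 (by decide)
    (by rw [len_Lp]; exact T0.htrans) closure_numGens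
    (by
      rw [H, ← genW_singletons]
      exact genW_le_pstab matches_ρ100 _ (by rw [len_Lp]; decide +kernel) (by decide +kernel))

theorem card_H : Nat.card H = 6048 := by
  have h := Subgroup.card_mul_index H
  rw [index_and_eq.1, card_P] at h
  omega

theorem ev_eq_of_base {v w : List Nat} (hv : checkLetters 5 [v] = true)
    (hw : checkLetters 5 [w] = true)
    (h : allList (fun b => Nat.beq (follow (tget Tb) b v) (follow (tget Tb) b w))
      (base.map Fin.val) = true) : ev Lp v = ev Lp w :=
  matches_ρ.ev_eq_of_base base_bot (by rwa [len_Lp]) (by rwa [len_Lp]) h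

end CfsgLib.J2.Perm
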